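import Mathlib.RingTheory.MvPolynomial.Homogeneous
import Mathlib.Algebra.Polynomial.BigOperators
import Mathlib.Algebra.Polynomial.Degree.Lemmas

/-! Leading coefficients after the substitution `x i ↦ x i + g i * t ^ N`. -/

set_option autoImplicit false

namespace Groth.Agent.TwistLib

open Polynomial

universe u v

theorem natDegree_prod_coeff {ι : Type*} {R : Type*} [CommSemiring R] (s : Finset ι) (p : ι → R[X]) (e : ι → ℕ)
    (h : ∀ i ∈ s, (p i).natDegree ≤ e i) :
    (∏ i ∈ s, p i).natDegree ≤ ∑ i ∈ s, e i ∧ (∏ i ∈ s, p i).coeff (∑ i ∈ s, e i) = ∏ i ∈ s, (p i).coeff (e i) := by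
  classical
  induction s using Finset.induction with
  | empty => simp
  | insert a s ha ih =>
    obtain ⟨h1, h2⟩ := ih fun i hi => h i (Finset.mem_insert_of_mem hi)
    have h3 := h a (Finset.mem_insert_self a s)
    rw [Finset.prod_insert ha, Finset.sum_insert ha, Finset.prod_insert ha]
    exact ⟨natDegree_mul_le.trans (Nat.add_le_add h3 h1), by rw [coeff_mul_add_eq_of_natDegree_le h3 h1, h2]⟩

variable {k : Type u} [Field k] {r : ℕ} {K : Type v} [Field K] [Algebra k K]

/-- The twisted substitution. -/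
noncomputable def twist (g : Fin r → K) (N : ℕ) : MvPolynomial (Fin r) k →ₐ[k] Polynomial (MvPolynomial (Fin r) K) :=
  MvPolynomial.aeval (fun i : Fin r =>
    Polynomial.C (MvPolynomial.X i) + Polynomial.C (MvPolynomial.C (g i)) * Polynomial.X ^ N)

theorem twist_monomial (g : Fin r → K) {N : ℕ} (hN : 0 < N) (α : Fin r →₀ ℕ) (c : k) :
    (twist g N (MvPolynomial.monomial α c)).natDegree ≤ α.degree * N ∧
      (twist g N (MvPolynomial.monomial α c)).coeff (α.degree * N) =
        MvPolynomial.C (MvPolynomial.aeval g (MvPolynomial.monomial α c)) := by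
  rw [twist, MvPolynomial.aeval_monomial, MvPolynomial.aeval_monomial, Finsupp.prod_fintype _ _ (by simp),
    Finsupp.prod_fintype _ _ (by simp)]
  have hsum : α.degree * N = ∑ i, α i * N := by
    rw [← Finset.sum_mul, Finsupp.degree_eq_sum]
  have hlin : ∀ i, (Polynomial.C (MvPolynomial.X i) + Polynomial.C (MvPolynomial.C (g i)) * Polynomial.X ^ N :
      Polynomial (MvPolynomial (Fin r) K)).natDegree ≤ N := fun i =>
    (natDegree_add_le _ _).trans (max_le (by simp) (natDegree_C_mul_X_pow_le _ _))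
  obtain ⟨h1, h2⟩ := natDegree_prod_coeff Finset.univ (fun i => (Polynomial.C (MvPolynomial.X i) +
    Polynomial.C (MvPolynomial.C (g i)) * Polynomial.X ^ N : Polynomial (MvPolynomial (Fin r) K)) ^ α i)
    (fun i => α i * N) (fun i _ => natDegree_pow_le.trans (Nat.mul_le_mul_left _ (hlin i)))
  rw [hsum]
  have hc : (algebraMap k (Polynomial (MvPolynomial (Fin r) K)) c) =
      Polynomial.C (MvPolynomial.C (algebraMap k K c)) := rfl
  rw [hc]
  refine ⟨(natDegree_C_mul_le _ _).trans h1, ?_⟩
  rw [coeff_C_mul, h2, map_mul, map_prod]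
  refine congrArg _ (Finset.prod_congr rfl fun i _ => ?_)
  rw [coeff_pow_of_natDegree_le (hlin i), coeff_add, coeff_C_ne_zero hN.ne', zero_add, coeff_C_mul_X_pow,
    if_pos rfl, map_pow]

theorem twist_bound (g : Fin r → K) {N : ℕ} (hN : 0 < N) {D : ℕ} (a : MvPolynomial (Fin r) k)
    (ha : a.totalDegree ≤ D) :
    (twist g N a).natDegree ≤ D * N ∧
      (twist g N a).coeff (D * N) = MvPolynomial.C (MvPolynomial.aeval g (MvPolynomial.homogeneousComponent D a)) := by
  have hdeg : ∀ α ∈ a.support, α.degree ≤ D := fun α hα => by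
    refine le_trans ?_ ((MvPolynomial.le_totalDegree hα).trans ha)
    rw [Finsupp.degree_eq_sum, Finsupp.sum_fintype _ _ (fun _ => rfl)]
  have e : twist g N a = ∑ α ∈ a.support, twist g N (MvPolynomial.monomial α (a.coeff α)) := by
    rw [← map_sum, ← MvPolynomial.as_sum]
  constructor
  · rw [e]
    exact natDegree_sum_le_of_forall_le _ _ fun α hα =>
      (twist_monomial g hN α _).1.trans (Nat.mul_le_mul_right _ (hdeg α hα))
  · rw [e, finset_sum_coeff, MvPolynomial.homogeneousComponent_apply, map_sum, map_sum, Finset.sum_filter]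
    refine Finset.sum_congr rfl fun α hα => ?_
    obtain ⟨h1, h2⟩ := twist_monomial g hN α (a.coeff α)
    split_ifs with h
    · rw [← h]
      exact h2
    · refine coeff_eq_zero_of_natDegree_lt (h1.trans_lt ?_)
      exact Nat.mul_lt_mul_of_pos_right (lt_of_le_of_ne (hdeg α hα) h) hN

theorem homogeneousComponent_totalDegree_ne_zero {a : MvPolynomial (Fin r) k} (ha : a ≠ 0) :
    MvPolynomial.homogeneousComponent a.totalDegree a ≠ 0 := by
  obtain ⟨α, hα, hα'⟩ := a.support.exists_mem_eq_sup (MvPolynomial.support_nonempty.2 ha)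
    (fun s => s.sum fun _ e => e)
  intro h
  have h' := congrArg (MvPolynomial.coeff α) h
  rw [MvPolynomial.coeff_homogeneousComponent, if_pos, MvPolynomial.coeff_zero] at h'
  · exact MvPolynomial.mem_support_iff.1 hα h'
  · rw [Finsupp.degree_eq_sum, ← Finsupp.sum_fintype α (fun _ e => e) (fun _ => rfl)]
    exact hα'.symm

theorem exists_leading (f : Polynomial (MvPolynomial (Fin r) k)) (hf : f ≠ 0) :
    ∃ h : MvPolynomial (Fin r) k, h ≠ 0 ∧ ∀ (K : Type v) [Field K] [Algebra k K] (g : Fin r → K) (N : ℕ),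
      f.natDegree < N → MvPolynomial.aeval g h ≠ 0 →
        ∃ c : K, c ≠ 0 ∧ (Polynomial.eval₂ (twist g N).toRingHom Polynomial.X f).leadingCoeff = MvPolynomial.C c := by
  classical
  obtain ⟨D, hD, hDle⟩ : ∃ D, (∃ j ∈ f.support, (f.coeff j).totalDegree = D) ∧
      ∀ j, (f.coeff j).totalDegree ≤ D := by
    obtain ⟨j, hj, hj'⟩ := f.support.exists_mem_eq_sup (Polynomial.support_nonempty.2 hf)
      (fun j => (f.coeff j).totalDegree)
    refine ⟨_, ⟨j, hj, hj'.symm⟩, fun i => ?_⟩
    by_cases hi : i ∈ f.support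
    · exact Finset.le_sup (f := fun j => (f.coeff j).totalDegree) hi
    · simp [Polynomial.notMem_support_iff.1 hi]
  let S := f.support.filter fun j => MvPolynomial.homogeneousComponent D (f.coeff j) ≠ 0
  have hS : S.Nonempty := by
    obtain ⟨j, hj, rfl⟩ := hD
    exact ⟨j, Finset.mem_filter.2 ⟨hj, homogeneousComponent_totalDegree_ne_zero (Polynomial.mem_support_iff.1 hj)⟩⟩
  let J := S.max' hS
  have hJ := Finset.mem_filter.1 (S.max'_mem hS)
  refine ⟨_, hJ.2, fun K _ _ g N hN hg => ⟨_, hg, ?_⟩⟩
  have hN0 : 0 < N := by omega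
  have key : ∀ j ∈ f.support, ((twist g N (f.coeff j)) * Polynomial.X ^ j).natDegree ≤ D * N + J ∧
      (j ≠ J → ((twist g N (f.coeff j)) * Polynomial.X ^ j).coeff (D * N + J) = 0) := by
    intro j hj
    obtain ⟨h1, h2⟩ := twist_bound g hN0 (f.coeff j) (hDle j)
    have hjd : j ≤ f.natDegree := Polynomial.le_natDegree_of_mem_supp j hj
    by_cases hjS : MvPolynomial.homogeneousComponent D (f.coeff j) = 0
    · have hlt : ((twist g N (f.coeff j)) * Polynomial.X ^ j).natDegree < D * N + J := by
        have hne : f.coeff j ≠ 0 := Polynomial.mem_support_iff.1 hj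
        have hltD : (f.coeff j).totalDegree < D := lt_of_le_of_ne (hDle j) fun h =>
          homogeneousComponent_totalDegree_ne_zero hne (h ▸ hjS)
        obtain ⟨h3, -⟩ := twist_bound g hN0 (f.coeff j) (Nat.le_sub_one_of_lt hltD)
        refine natDegree_mul_le.trans_lt ?_
        rw [natDegree_X_pow]
        have : (D - 1) * N + N = D * N := by
          rw [← Nat.succ_mul, Nat.succ_eq_add_one, Nat.sub_add_cancel (Nat.one_le_of_lt hltD)]
        omega
      exact ⟨hlt.le, fun _ => coeff_eq_zero_of_natDegree_lt hlt⟩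
    · have hjJ : j ≤ J := S.le_max' j (Finset.mem_filter.2 ⟨hj, hjS⟩)
      refine ⟨natDegree_mul_le.trans (Nat.add_le_add h1 (by rw [natDegree_X_pow]; exact hjJ)), fun hne => ?_⟩
      refine coeff_eq_zero_of_natDegree_lt (natDegree_mul_le.trans_lt ?_)
      rw [natDegree_X_pow]
      omega
  have e : Polynomial.eval₂ (twist g N).toRingHom Polynomial.X f =
      ∑ j ∈ f.support, twist g N (f.coeff j) * Polynomial.X ^ j := by
    rw [Polynomial.eval₂_eq_sum, Polynomial.sum_def]
    rfl
  rw [e]
  have hcoeff : (∑ j ∈ f.support, twist g N (f.coeff j) * Polynomial.X ^ j).coeff (D * N + J) =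
      MvPolynomial.C (MvPolynomial.aeval g (MvPolynomial.homogeneousComponent D (f.coeff J))) := by
    rw [finset_sum_coeff, Finset.sum_eq_single J (fun j hj hne => (key j hj).2 hne) (fun h => absurd hJ.1 h),
      coeff_mul_X_pow, (twist_bound g hN0 (f.coeff J) (hDle J)).2]
  have hdeg := natDegree_sum_le_of_forall_le f.support (fun j => twist g N (f.coeff j) * Polynomial.X ^ j)
    fun j hj => (key j hj).1
  have heq : (∑ j ∈ f.support, twist g N (f.coeff j) * Polynomial.X ^ j).natDegree = D * N + J :=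
    le_antisymm hdeg (le_natDegree_of_ne_zero (by
      rw [hcoeff]
      exact fun h => hg (MvPolynomial.C_eq_zero.1 h)))
  rw [Polynomial.leadingCoeff, heq, hcoeff]

end Groth.Agent.TwistLib
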